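import Mathlib
import Cfsg.Prelude.Def_Solvable
set_option linter.all false

/-!
# The Baer–Suzuki theorem (Alperin–Lyons proof)

* `baer_suzuki_set`: a conjugation-invariant set `K` of a finite group, every two members of which
  generate a `p`-group, generates a `p`-group.
* `baer_suzuki_element`: the version for one element and its conjugates.
* `baer_suzuki_subgroup`: the version for a subgroup and its conjugates.
-/

set_option autoImplicit false

namespace Cfsg.Agent.Involutions.BaerSuzuki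

variable {G : Type*} [Group G]

/-- A proper subgroup `D` of a finite `p`-subgroup `P` of `G` is normalized by some element
of `P` outside `D`. -/
theorem exists_mem_normalizer_of_lt [Finite G] {p : ℕ} [Fact p.Prime] {P D : Subgroup G}
    (hP : IsPGroup p P) (hDP : D < P) :
    ∃ x ∈ P, x ∉ D ∧ x ∈ Subgroup.normalizer (D : Set G) := by
  have hnil : Group.IsNilpotent P := hP.isNilpotent
  have hlt : D.subgroupOf P < ⊤ := by
    rw [lt_top_iff_ne_top]
    intro h
    rw [Subgroup.subgroupOf_eq_top] at h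
    exact absurd h (not_le_of_gt hDP)
  have hn := Group.normalizerCondition_of_isNilpotent (D.subgroupOf P) hlt
  obtain ⟨x, hx1, hx2⟩ := SetLike.exists_of_lt hn
  refine ⟨x, x.2, ?_, ?_⟩
  · intro h
    exact hx2 (Subgroup.mem_subgroupOf.2 h)
  · rw [Subgroup.mem_normalizer_iff] at hx1 ⊢
    intro h
    constructor
    · intro hh
      have := (hx1 ⟨h, hDP.le hh⟩).1 (Subgroup.mem_subgroupOf.2 hh)
      simpa [Subgroup.mem_subgroupOf] using this
    · intro hh
      have hhP : h ∈ P := by
        have h1 := hDP.le hh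
        have h2 := P.mul_mem (P.mul_mem (P.inv_mem x.2) h1) x.2
        simpa [mul_assoc] using h2
      have := (hx1 ⟨h, hhP⟩).2 (by
        rw [Subgroup.mem_subgroupOf]
        simpa using hh)
      simpa [Subgroup.mem_subgroupOf] using this

/-- The key step: let `K` be a conjugation-invariant set, `P` a `p`-subgroup and `E` a subset of
`K ∩ P` that contains every element of `K` in the subgroup it generates.  If `E ≠ K ∩ P`, some
element of `(K ∩ P) \ E` normalizes `closure E`. -/
theorem exists_mem_normalizer_closure [Finite G] {p : ℕ} [Fact p.Prime] {K E : Set G}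
    (hK : ∀ g : G, ∀ x ∈ K, g * x * g⁻¹ ∈ K) {P : Subgroup G} (hP : IsPGroup p P)
    (hE : K ∩ (Subgroup.closure E : Set G) = E) (hEP : E ⊂ K ∩ (P : Set G)) :
    ∃ x ∈ K, x ∈ P ∧ x ∉ E ∧
      x ∈ Subgroup.normalizer ((Subgroup.closure E : Subgroup G) : Set G) := by
  classical
  -- maximal subgroup `D` of `P` with `K ∩ D = E`
  let S : Set (Subgroup G) := {D | D ≤ P ∧ K ∩ (D : Set G) = E}
  have hSfin : S.Finite := Set.toFinite S
  have hSne : S.Nonempty :=
    ⟨Subgroup.closure E, (Subgroup.closure_le _).2 (hEP.1.trans Set.inter_subset_right), hE⟩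
  obtain ⟨D, hD⟩ := hSfin.exists_maximal hSne
  have hDP : D ≤ P := hD.prop.1
  have hKD : K ∩ (D : Set G) = E := hD.prop.2
  have hne : D ≠ P := by
    rintro rfl
    exact hEP.ne hKD.symm
  obtain ⟨y, hyP, hyD, hyN⟩ := exists_mem_normalizer_of_lt hP (lt_of_le_of_ne hDP hne)
  let N : Subgroup G := P ⊓ Subgroup.normalizer (D : Set G)
  have hDN : D ≤ N := le_inf hDP Subgroup.le_normalizer
  have hNS : N ∉ S := by
    intro hN
    have := hD.le_of_ge hN hDN
    exact hyD (this ⟨hyP, hyN⟩)
  have hKN : K ∩ (N : Set G) ≠ E := fun h => hNS ⟨inf_le_left, h⟩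
  have hsub : E ⊆ K ∩ (N : Set G) := by
    rw [← hKD]
    exact Set.inter_subset_inter_right _ hDN
  obtain ⟨x, hx, hxE⟩ := Set.exists_of_ssubset (lt_of_le_of_ne hsub (Ne.symm hKN))
  refine ⟨x, hx.1, hx.2.1, hxE, ?_⟩
  have hxN : x ∈ Subgroup.normalizer (D : Set G) := hx.2.2
  have key : ∀ z ∈ Subgroup.normalizer (D : Set G), ∀ e ∈ E, z * e * z⁻¹ ∈ E := by
    intro z hz e he
    rw [← hKD] at he ⊢
    exact ⟨hK z e he.1, (Subgroup.mem_normalizer_iff.1 hz e).1 he.2⟩
  have key2 : ∀ z ∈ Subgroup.normalizer (D : Set G), ∀ e ∈ Subgroup.closure E,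
      z * e * z⁻¹ ∈ Subgroup.closure E := by
    intro z hz e he
    induction he using Subgroup.closure_induction with
    | mem a ha => exact Subgroup.subset_closure (key z hz a ha)
    | one => simp
    | mul a b _ _ ha hb =>
      have := mul_mem ha hb
      simpa [mul_assoc] using this
    | inv a _ ha =>
      have := inv_mem ha
      simpa [mul_assoc] using this
  rw [Subgroup.mem_normalizer_iff]
  intro h
  refine ⟨fun hh => key2 x hxN h hh, fun hh => ?_⟩
  have := key2 x⁻¹ (inv_mem hxN) _ hh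
  simpa [mul_assoc] using this

/-- All Sylow `p`-subgroups have the same intersection with `K`. -/
theorem inter_sylow_eq [Finite G] {p : ℕ} [Fact p.Prime] {K : Set G}
    (hK : ∀ g : G, ∀ x ∈ K, g * x * g⁻¹ ∈ K)
    (h : ∀ x ∈ K, ∀ y ∈ K, IsPGroup p (Subgroup.closure {x, y} : Subgroup G)) :
    ∀ (n : ℕ) (P Q : Sylow p G), Nat.card G ≤ n + (K ∩ (P : Set G) ∩ (Q : Set G)).ncard →
      K ∩ (P : Set G) = K ∩ (Q : Set G) := by
  have hcard : ∀ P Q : Sylow p G, (K ∩ (P : Set G)).ncard = (K ∩ (Q : Set G)).ncard := by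
    have hle : ∀ P Q : Sylow p G, (K ∩ (P : Set G)).ncard ≤ (K ∩ (Q : Set G)).ncard := by
      intro P Q
      obtain ⟨g, rfl⟩ := MulAction.exists_smul_eq G P Q
      refine Set.ncard_le_ncard_of_injOn (fun x => g * x * g⁻¹) ?_ ?_ (Set.toFinite _)
      · intro x hx
        refine ⟨hK g x hx.1, ?_⟩
        have hx2 : x ∈ (P : Subgroup G) := hx.2
        show g * x * g⁻¹ ∈ ((g • P : Sylow p G) : Subgroup G)
        rw [Sylow.coe_subgroup_smul]
        exact Subgroup.smul_mem_pointwise_smul x (MulAut.conj g) _ hx2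
      · intro x _ y _ hxy
        simpa using hxy
    exact fun P Q => le_antisymm (hle P Q) (hle Q P)
  intro n
  induction n with
  | zero =>
    intro P Q hn
    have h1 : (K ∩ (P : Set G) ∩ (Q : Set G)).ncard ≤ Nat.card G := Set.ncard_le_card _
    have h2 : K ∩ (P : Set G) ∩ (Q : Set G) = Set.univ := by
      apply Set.eq_of_subset_of_ncard_le (Set.subset_univ _)
      · rw [Set.ncard_univ]; omega
    have h3 : K ∩ (P : Set G) = Set.univ :=
      Set.eq_univ_of_univ_subset (h2 ▸ Set.inter_subset_left)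
    have h4 : K ∩ (Q : Set G) = Set.univ := by
      apply Set.eq_univ_of_univ_subset
      rw [← h2]
      intro x hx
      exact ⟨hx.1.1, hx.2⟩
    rw [h3, h4]
  | succ n ih =>
    intro P Q hn
    by_contra hne
    set E : Set G := K ∩ (P : Set G) ∩ (Q : Set G) with hEdef
    have hEK : K ∩ (Subgroup.closure E : Set G) = E := by
      apply Set.Subset.antisymm
      · rintro x ⟨hxK, hx⟩
        refine ⟨⟨hxK, ?_⟩, ?_⟩
        · exact (Subgroup.closure_le (P : Subgroup G)).2 (fun y hy => hy.1.2) hx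
        · exact (Subgroup.closure_le (Q : Subgroup G)).2 (fun y hy => hy.2) hx
      · intro x hx
        exact ⟨hx.1.1, Subgroup.subset_closure hx⟩
    have hEP : E ⊂ K ∩ (P : Set G) := by
      refine lt_of_le_of_ne Set.inter_subset_left ?_
      intro heq
      apply hne
      apply Set.eq_of_subset_of_ncard_le _ (hcard P Q).ge
      rw [← heq]
      exact fun x hx => ⟨hx.1.1, hx.2⟩
    have hEQ : E ⊂ K ∩ (Q : Set G) := by
      refine lt_of_le_of_ne (fun x hx => ⟨hx.1.1, hx.2⟩) ?_
      intro heq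
      apply hne
      symm
      apply Set.eq_of_subset_of_ncard_le _ (hcard Q P).ge
      rw [← heq]
      exact fun x hx => ⟨hx.1.1, hx.1.2⟩
    obtain ⟨x, hxK, hxP, hxE, hxN⟩ := exists_mem_normalizer_closure hK P.2 hEK hEP
    obtain ⟨y, hyK, hyQ, hyE, hyN⟩ := exists_mem_normalizer_closure hK Q.2 hEK hEQ
    have hDp : IsPGroup p (Subgroup.closure E : Subgroup G) :=
      P.2.to_le ((Subgroup.closure_le (P : Subgroup G)).2 (fun y hy => hy.1.2))
    have hxy := h x hxK y hyK
    have hle : (Subgroup.closure {x, y} : Subgroup G) ≤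
        Subgroup.normalizer ((Subgroup.closure E : Subgroup G) : Set G) := by
      rw [Subgroup.closure_le]
      intro z hz
      rcases hz with rfl | hz
      · exact hxN
      · rw [Set.mem_singleton_iff] at hz
        subst hz
        exact hyN
    obtain ⟨R, hR⟩ := (IsPGroup.to_sup_of_normal_left' hDp hxy hle).exists_le_sylow
    have hxR : x ∈ (R : Subgroup G) :=
      hR (Subgroup.mem_sup_right (Subgroup.subset_closure (by simp)))
    have hyR : y ∈ (R : Subgroup G) :=
      hR (Subgroup.mem_sup_right (Subgroup.subset_closure (by simp)))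
    have hER : ∀ e ∈ E, e ∈ (R : Subgroup G) := fun e he =>
      hR (Subgroup.mem_sup_left (Subgroup.subset_closure he))
    have h1 : K ∩ (P : Set G) = K ∩ (R : Set G) := by
      apply ih
      have hlt : E.ncard < (K ∩ (P : Set G) ∩ (R : Set G)).ncard := by
        apply Set.ncard_lt_ncard _ (Set.toFinite _)
        refine (Set.ssubset_iff_of_subset ?_).2 ⟨x, ⟨⟨hxK, hxP⟩, hxR⟩, hxE⟩
        exact fun e he => ⟨he.1, hER e he⟩
      omega
    have h2 : K ∩ (Q : Set G) = K ∩ (R : Set G) := by
      apply ih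
      have hlt : E.ncard < (K ∩ (Q : Set G) ∩ (R : Set G)).ncard := by
        apply Set.ncard_lt_ncard _ (Set.toFinite _)
        refine (Set.ssubset_iff_of_subset ?_).2 ⟨y, ⟨⟨hyK, hyQ⟩, hyR⟩, hyE⟩
        exact fun e he => ⟨⟨he.1.1, he.2⟩, hER e he⟩
      omega
    exact hne (h1.trans h2.symm)

/-- **Baer–Suzuki**, set version. A conjugation-invariant set `K` such that any two members
generate a `p`-group lies in every Sylow `p`-subgroup. -/
theorem subset_sylow [Finite G] {p : ℕ} [Fact p.Prime] {K : Set G}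
    (hK : ∀ g : G, ∀ x ∈ K, g * x * g⁻¹ ∈ K)
    (h : ∀ x ∈ K, ∀ y ∈ K, IsPGroup p (Subgroup.closure {x, y} : Subgroup G))
    (P : Sylow p G) : K ⊆ (P : Set G) := by
  intro x hx
  obtain ⟨Q, hQ⟩ := (h x hx x hx).exists_le_sylow
  have hxQ : x ∈ K ∩ (Q : Set G) := ⟨hx, hQ (Subgroup.subset_closure (by simp))⟩
  rw [inter_sylow_eq hK h (Nat.card G) Q P (Nat.le_add_right _ _)] at hxQ
  exact hxQ.2

/-- **Baer–Suzuki**, set version: a conjugation-invariant set `K` of a finite group such that
any two members of `K` generate a `p`-group generates a `p`-group. -/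
theorem baer_suzuki_set [Finite G] {p : ℕ} [Fact p.Prime] {K : Set G}
    (hK : ∀ g : G, ∀ x ∈ K, g * x * g⁻¹ ∈ K)
    (h : ∀ x ∈ K, ∀ y ∈ K, IsPGroup p (Subgroup.closure {x, y} : Subgroup G)) :
    IsPGroup p (Subgroup.closure K : Subgroup G) := by
  obtain ⟨P⟩ : Nonempty (Sylow p G) := Sylow.nonempty
  exact P.2.to_le ((Subgroup.closure_le (P : Subgroup G)).2 (subset_sylow hK h P))

/-- **Baer–Suzuki**, element version: if `x` generates a `p`-group together with each of its
conjugates, the normal closure of `x` is a `p`-group. -/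
theorem baer_suzuki_element [Finite G] {p : ℕ} [Fact p.Prime] (x : G)
    (h : ∀ g : G, IsPGroup p (Subgroup.closure {x, g * x * g⁻¹} : Subgroup G)) :
    IsPGroup p (Subgroup.normalClosure {x} : Subgroup G) := by
  have hK : ∀ g : G, ∀ y ∈ Group.conjugatesOfSet {x}, g * y * g⁻¹ ∈ Group.conjugatesOfSet {x} :=
    fun g y hy => Group.conj_mem_conjugatesOfSet hy
  refine baer_suzuki_set hK ?_
  intro y hy z hz
  rw [Group.mem_conjugatesOfSet_iff] at hy hz
  obtain ⟨a, ha, hay⟩ := hy
  obtain ⟨b, hb, hbz⟩ := hz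
  rw [Set.mem_singleton_iff] at ha hb
  subst ha
  subst hb
  obtain ⟨g, hg⟩ := isConj_iff.1 hay
  obtain ⟨k, hk⟩ := isConj_iff.1 hbz
  have hmap := (h (g⁻¹ * k)).map (MulAut.conj g).toMonoidHom
  rw [MonoidHom.map_closure] at hmap
  have : (MulAut.conj g).toMonoidHom '' {b, g⁻¹ * k * b * (g⁻¹ * k)⁻¹} = {y, z} := by
    rw [Set.image_pair]
    have e1 : (MulAut.conj g).toMonoidHom b = y := by simpa using hg
    have e2 : (MulAut.conj g).toMonoidHom (g⁻¹ * k * b * (g⁻¹ * k)⁻¹) = z := by
      rw [← hk]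
      simp [mul_assoc]
    rw [e1, e2]
  rwa [this] at hmap

/-- **Baer–Suzuki**, element version, conclusion in terms of `pCore`. -/
theorem mem_pCore_of_conj_pairs [Finite G] {p : ℕ} [Fact p.Prime] (x : G)
    (h : ∀ g : G, IsPGroup p (Subgroup.closure {x, g * x * g⁻¹} : Subgroup G)) :
    x ∈ Cfsg.pCore p G := by
  have h1 : (Subgroup.normalClosure {x} : Subgroup G) ≤ Cfsg.pCore p G :=
    le_sSup ⟨Subgroup.normalClosure_normal, baer_suzuki_element x h⟩
  exact h1 (Subgroup.subset_normalClosure (by simp))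

/-- **Baer–Suzuki**, subgroup version: if `X` generates a `p`-group together with each of its
conjugates, the normal closure of `X` is a `p`-group. -/
theorem baer_suzuki_subgroup [Finite G] {p : ℕ} [Fact p.Prime] (X : Subgroup G)
    (h : ∀ g : G, IsPGroup p (X ⊔ X.map (MulAut.conj g).toMonoidHom : Subgroup G)) :
    IsPGroup p (Subgroup.normalClosure (X : Set G) : Subgroup G) := by
  have hK : ∀ g : G, ∀ y ∈ Group.conjugatesOfSet (X : Set G),
      g * y * g⁻¹ ∈ Group.conjugatesOfSet (X : Set G) :=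
    fun g y hy => Group.conj_mem_conjugatesOfSet hy
  refine baer_suzuki_set hK ?_
  intro y hy z hz
  rw [Group.mem_conjugatesOfSet_iff] at hy hz
  obtain ⟨a, ha, hay⟩ := hy
  obtain ⟨b, hb, hbz⟩ := hz
  obtain ⟨g, hg⟩ := isConj_iff.1 hay
  obtain ⟨k, hk⟩ := isConj_iff.1 hbz
  have hmap := (h (g⁻¹ * k)).map (MulAut.conj g).toMonoidHom
  refine hmap.to_le ?_
  rw [Subgroup.closure_le]
  intro w hw
  rcases hw with rfl | hw
  · refine ⟨a, Subgroup.mem_sup_left ha, ?_⟩
    simpa using hg
  · rw [Set.mem_singleton_iff] at hw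
    subst hw
    refine ⟨g⁻¹ * k * b * (g⁻¹ * k)⁻¹,
      Subgroup.mem_sup_right ⟨b, hb, by simp [mul_assoc]⟩, ?_⟩
    rw [← hk]
    simp [mul_assoc]

/-- An involution that lies in no normal 2-subgroup of a finite group inverts a nontrivial
element of odd order. -/
theorem exists_odd_inverted [Finite G] (t : G) (ht : t * t = 1)
    (hO : ¬ IsPGroup 2 (Subgroup.normalClosure {t} : Subgroup G)) :
    ∃ h : G, h ≠ 1 ∧ Odd (orderOf h) ∧ t * h * t⁻¹ = h⁻¹ := by
  have htinv : t⁻¹ = t := inv_eq_of_mul_eq_one_left ht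
  by_contra hcon
  push Not at hcon
  apply hO
  apply baer_suzuki_element
  intro g
  set s : G := g * t * g⁻¹ with hs
  have hss : s * s = 1 := by
    rw [hs]
    calc g * t * g⁻¹ * (g * t * g⁻¹) = g * (t * t) * g⁻¹ := by group
      _ = 1 := by rw [ht]; group
  have hsinv : s⁻¹ = s := inv_eq_of_mul_eq_one_left hss
  set a : G := t * s with ha
  have hinv : t * a * t⁻¹ = a⁻¹ := by
    rw [ha, mul_inv_rev, hsinv, htinv, ← mul_assoc, ht, one_mul]
  have hinvpow : ∀ n : ℕ, t * a ^ n * t⁻¹ = (a ^ n)⁻¹ := by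
    intro n
    rw [← conj_pow, hinv, inv_pow]
  -- the order of `a` is a power of 2
  have hapos : orderOf a ≠ 0 := (orderOf_pos a).ne'
  obtain ⟨k, m, hm, hkm⟩ := Nat.exists_eq_two_pow_mul_odd hapos
  have hm1 : m = 1 := by
    by_contra hm1
    have hord : orderOf (a ^ (2 ^ k)) = m := by
      rw [orderOf_pow_of_dvd (by positivity) ⟨m, hkm⟩, hkm, Nat.mul_div_cancel_left _ (by positivity)]
    refine hcon (a ^ (2 ^ k)) ?_ (hord ▸ hm) (hinvpow _)
    intro h1
    rw [h1, orderOf_one] at hord
    exact hm1 hord.symm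
  rw [hm1, mul_one] at hkm
  have hA : IsPGroup 2 (Subgroup.zpowers a) := by
    apply IsPGroup.of_card (n := k)
    rw [Nat.card_zpowers, hkm]
  have hT : IsPGroup 2 (Subgroup.zpowers t) := by
    rintro ⟨x, hx⟩
    obtain ⟨n, rfl⟩ := Subgroup.mem_zpowers_iff.1 hx
    refine ⟨1, Subtype.ext ?_⟩
    have h1 : (t ^ n) ^ 2 = 1 := by
      rw [pow_two, ← zpow_add, ← two_mul, zpow_mul]
      norm_cast
      rw [pow_two, ht, one_zpow]
    simpa using h1
  have hnorm : Subgroup.zpowers t ≤ Subgroup.normalizer ((Subgroup.zpowers a : Subgroup G) : Set G) := by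
    rw [Subgroup.zpowers_le, Subgroup.mem_normalizer_iff]
    have hfor : ∀ h ∈ Subgroup.zpowers a, t * h * t⁻¹ ∈ Subgroup.zpowers a := by
      rintro h ⟨n, rfl⟩
      simp only
      rw [← conj_zpow, hinv]
      exact ⟨-n, by simp⟩
    intro h
    refine ⟨hfor h, fun hh => ?_⟩
    have := hfor _ hh
    rw [htinv] at this
    have h2 : t * (t * h * t) * t = h := by
      calc t * (t * h * t) * t = (t * t) * h * (t * t) := by group
        _ = h := by rw [ht]; group
    rwa [h2] at this
  refine (IsPGroup.to_sup_of_normal_left' hA hT hnorm).to_le ?_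
  rw [Subgroup.closure_le]
  intro w hw
  rcases hw with rfl | hw
  · exact Subgroup.mem_sup_right (Subgroup.mem_zpowers _)
  · rw [Set.mem_singleton_iff] at hw
    subst hw
    have h1 : t * a = s := by rw [ha, ← mul_assoc, ht, one_mul]
    rw [← h1]
    exact mul_mem (Subgroup.mem_sup_right (Subgroup.mem_zpowers _))
      (Subgroup.mem_sup_left (Subgroup.mem_zpowers _))

end Cfsg.Agent.Involutions.BaerSuzuki
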