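import Mathlib
set_option linter.all false

set_option autoImplicit false

namespace Cfsg.Agent.Involutions.NormalFour

/-- A nontrivial normal subgroup of a finite `p`-group contains a central element of order `p`. -/
theorem exists_mem_center_of_normal {P : Type*} [Group P] [Finite P] {p : ℕ} [Fact p.Prime]
    (hP : IsPGroup p P) (N : Subgroup P) [N.Normal] (hN : N ≠ ⊥) :
    ∃ z ∈ N, z ∈ Subgroup.center P ∧ orderOf z = p := by
  classical
  have hNP : IsPGroup p N := hP.to_subgroup N
  have : Nontrivial N := (Subgroup.nontrivial_iff_ne_bot N).mpr hN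
  obtain ⟨n, hn0, hn⟩ := (hNP.nontrivial_iff_card).mp inferInstance
  have hdvd : p ∣ Nat.card N := by rw [hn]; exact dvd_pow_self p hn0.ne'
  have hPc : IsPGroup p (ConjAct P) := hP.of_equiv ConjAct.toConjAct
  obtain ⟨z, hz, hz1⟩ := hPc.exists_fixed_point_of_prime_dvd_card_of_fixed_point N hdvd
    (a := (1 : N)) (by intro g; simp)
  have hzc : ∀ g : P, g * (z : P) = z * g := by
    intro g
    have h1 := hz (ConjAct.toConjAct g)
    have h2 : g * (z : P) * g⁻¹ = z := by
      have h3 := congrArg (Subtype.val) h1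
      exact h3
    calc g * (z : P) = (g * z * g⁻¹) * g := by group
      _ = z * g := by rw [h2]
  -- replace z by a power of order p
  have hzne : (z : P) ≠ 1 := by
    intro h
    apply hz1
    exact (Subtype.ext h.symm)
  obtain ⟨k, hk⟩ := (IsPGroup.iff_orderOf.mp hP) (z : P)
  have hk0 : k ≠ 0 := by
    rintro rfl
    rw [pow_zero, orderOf_eq_one_iff] at hk
    exact hzne hk
  refine ⟨(z : P) ^ (p ^ (k - 1)), N.pow_mem z.2 _, ?_, ?_⟩
  · refine Subgroup.pow_mem _ ?_ _
    rw [Subgroup.mem_center_iff]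
    exact hzc
  · rw [orderOf_pow, hk]
    have h1 : (p ^ k).gcd (p ^ (k - 1)) = p ^ (k - 1) := Nat.gcd_eq_right (pow_dvd_pow p (by omega))
    rw [h1]
    have hpp : 0 < p := (Fact.out : p.Prime).pos
    rw [Nat.pow_div (by omega) hpp]
    have : k - (k - 1) = 1 := by omega
    rw [this, pow_one]

/-- A finite `p`-group has a self-centralizing abelian normal subgroup. -/
theorem exists_self_centralizing_normal {P : Type*} [Group P] [Finite P] {p : ℕ} [Fact p.Prime]
    (hP : IsPGroup p P) :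
    ∃ A : Subgroup P, A.Normal ∧ (∀ a ∈ A, ∀ b ∈ A, a * b = b * a) ∧
      ∀ g : P, (∀ a ∈ A, g * a = a * g) → g ∈ A := by
  classical
  -- choose A normal abelian of maximal card
  obtain ⟨A, ⟨hAn, hAc⟩, hmax⟩ := Set.exists_max_image
    {A : Subgroup P | A.Normal ∧ ∀ a ∈ A, ∀ b ∈ A, a * b = b * a} (fun A => Nat.card A)
    (Set.toFinite _) ⟨⊥, inferInstance, by
      intro a ha b hb
      rw [Subgroup.mem_bot] at ha hb
      rw [ha, hb]⟩
  refine ⟨A, hAn, hAc, ?_⟩
  by_contra hcon
  push Not at hcon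
  obtain ⟨g, hg, hgA⟩ := hcon
  -- the centralizer of A
  let C : Subgroup P := Subgroup.centralizer (A : Set P)
  have hCn : C.Normal := by
    change (Subgroup.centralizer (A : Set P)).Normal
    infer_instance
  have hAC : A ≤ C := by
    intro a ha
    rw [Subgroup.mem_centralizer_iff]
    intro b hb
    exact hAc b hb a ha
  let f := QuotientGroup.mk' A
  have hCmap : C.map f ≠ ⊥ := by
    intro h
    rw [Subgroup.map_eq_bot_iff, QuotientGroup.ker_mk'] at h
    apply hgA
    apply h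
    rw [Subgroup.mem_centralizer_iff]
    intro b hb
    exact (hg b hb).symm
  have : (C.map f).Normal := hCn.map f (QuotientGroup.mk'_surjective A)
  obtain ⟨y, hyC, hyz, hyo⟩ := exists_mem_center_of_normal (hP.to_quotient A) (C.map f) hCmap
  obtain ⟨x, hxC, rfl⟩ := hyC
  have hxA : x ∉ A := by
    intro hx
    have : f x = 1 := (QuotientGroup.eq_one_iff x).mpr hx
    rw [this, orderOf_one] at hyo
    exact (Fact.out : p.Prime).one_lt.ne hyo
  -- B = A ⊔ zpowers x as comap
  let B : Subgroup P := (Subgroup.zpowers (f x)).comap f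
  have hBn : B.Normal := by
    have hz : (Subgroup.zpowers (f x)).Normal := by
      refine ⟨?_⟩
      rintro n hn g
      obtain ⟨k, rfl⟩ := Subgroup.mem_zpowers_iff.mp hn
      have hc := Subgroup.mem_center_iff.mp ((Subgroup.center (P ⧸ A)).zpow_mem hyz k) g
      rw [hc, mul_assoc, mul_inv_cancel, mul_one]
      exact Subgroup.zpow_mem _ (Subgroup.mem_zpowers _) k
    exact hz.comap f
  have hBdesc : ∀ b ∈ B, ∃ (k : ℤ), ∃ a ∈ A, b = x ^ k * a := by
    intro b hb
    obtain ⟨k, hk⟩ := Subgroup.mem_zpowers_iff.mp (Subgroup.mem_comap.mp hb)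
    refine ⟨k, (x ^ k)⁻¹ * b, ?_, by group⟩
    rw [← map_zpow] at hk
    exact (QuotientGroup.eq).mp hk
  have hxc : ∀ a ∈ A, a * x = x * a := by
    intro a ha
    exact (Subgroup.mem_centralizer_iff.mp hxC) a ha
  have hBc : ∀ a ∈ B, ∀ b ∈ B, a * b = b * a := by
    intro b hb b' hb'
    obtain ⟨k, a, ha, rfl⟩ := hBdesc b hb
    obtain ⟨k', a', ha', rfl⟩ := hBdesc b' hb'
    have c1 : Commute a a' := hAc a ha a' ha'
    have c2 : Commute a (x ^ k') := (show Commute a x from hxc a ha).zpow_right k'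
    have c3 : Commute (x ^ k) a' := (show Commute a' x from hxc a' ha').symm.zpow_left k
    have c4 : Commute (x ^ k) (x ^ k') := (Commute.refl x).zpow_zpow k k'
    exact ((c4.mul_right c3).mul_left (c2.mul_right c1)).eq
  have hle := hmax B ⟨hBn, hBc⟩
  have hAB : A ≤ B := by
    intro a ha
    have h1 : f a = 1 := (QuotientGroup.eq_one_iff a).mpr ha
    change f a ∈ Subgroup.zpowers (f x)
    rw [h1]; exact Subgroup.one_mem _
  have hEq : A = B := Subgroup.eq_of_le_of_card_ge hAB hle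
  apply hxA
  rw [hEq]
  exact Subgroup.mem_zpowers (f x)

/-- A normal subgroup of exponent dividing 2 and order ≥ 4 of a finite 2-group `P` contains a
normal four-subgroup of `P`. -/
theorem exists_normal_four_of_normal {P : Type*} [Group P] [Finite P]
    (hP : IsPGroup 2 P) (N : Subgroup P) [hNn : N.Normal] (hN2 : ∀ x ∈ N, x ^ 2 = 1)
    (hcard : 2 < Nat.card N) :
    ∃ U : Subgroup P, U.Normal ∧ U ≤ N ∧ Nat.card U = 4 ∧ ∀ u ∈ U, u ^ 2 = 1 := by
  classical
  have : Fact (Nat.Prime 2) := ⟨Nat.prime_two⟩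
  have hNb : N ≠ ⊥ := by
    rintro rfl
    rw [Subgroup.card_bot] at hcard
    omega
  obtain ⟨z, hzN, hzc, hzo⟩ := exists_mem_center_of_normal hP N hNb
  let Z : Subgroup P := Subgroup.zpowers z
  have hZcard : Nat.card Z = 2 := by rw [← hzo]; exact Nat.card_zpowers z
  have hZn : Z.Normal := by
    refine ⟨?_⟩
    rintro n hn g
    have hc := Subgroup.mem_center_iff.mp
      ((Subgroup.zpowers_le.mpr hzc) hn) g
    rw [hc, mul_assoc, mul_inv_cancel, mul_one]
    exact hn
  have hZN : Z ≤ N := Subgroup.zpowers_le.mpr hzN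
  let f := QuotientGroup.mk' Z
  have hNmap : N.map f ≠ ⊥ := by
    intro h
    rw [Subgroup.map_eq_bot_iff, QuotientGroup.ker_mk'] at h
    have : Nat.card N ≤ Nat.card Z := Subgroup.card_le_of_le h
    omega
  have : (N.map f).Normal := hNn.map f (QuotientGroup.mk'_surjective Z)
  obtain ⟨y, hyN, hyz, hyo⟩ := exists_mem_center_of_normal (hP.to_quotient Z) (N.map f) hNmap
  let U : Subgroup P := (Subgroup.zpowers y).comap f
  have hYn : (Subgroup.zpowers y).Normal := by
    refine ⟨?_⟩
    rintro n hn g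
    have hc := Subgroup.mem_center_iff.mp
      ((Subgroup.zpowers_le.mpr hyz) hn) g
    rw [hc, mul_assoc, mul_inv_cancel, mul_one]
    exact hn
  have hUN : U ≤ N := by
    intro u hu
    have h1 : f u ∈ N.map f := (Subgroup.zpowers_le.mpr hyN) (Subgroup.mem_comap.mp hu)
    obtain ⟨n, hn, hnu⟩ := h1
    have h2 : n⁻¹ * u ∈ Z := QuotientGroup.eq.mp hnu
    have h3 := N.mul_mem hn (hZN h2)
    simpa using h3
  refine ⟨U, hYn.comap f, hUN, ?_, fun u hu => hN2 u (hUN hu)⟩
  have h1 : Nat.card (Subgroup.zpowers y) = 2 := by rw [← hyo]; exact Nat.card_zpowers y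
  have h2 : Nat.card U * U.index = Nat.card P := Subgroup.card_mul_index U
  have h3 : U.index = (Subgroup.zpowers y).index :=
    Subgroup.index_comap_of_surjective _ (QuotientGroup.mk'_surjective Z)
  have h4 : Nat.card (Subgroup.zpowers y) * (Subgroup.zpowers y).index = Nat.card (P ⧸ Z) :=
    Subgroup.card_mul_index _
  have h5 : Nat.card P = Nat.card (P ⧸ Z) * Nat.card Z := Subgroup.card_eq_card_quotient_mul_card_subgroup Z
  rw [h3, h5, ← h4, h1, hZcard] at h2
  have h6 : 0 < (Subgroup.zpowers y).index := Nat.pos_of_ne_zero Subgroup.index_ne_zero_of_finite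
  have h7 : Nat.card U * (Subgroup.zpowers y).index = 4 * (Subgroup.zpowers y).index := by
    rw [h2]; ring
  exact Nat.eq_of_mul_eq_mul_right h6 h7

theorem orderOf_zpow_odd {P : Type*} [Group P] [Finite P] (hP : IsPGroup 2 P) (a : P) {k : ℤ}
    (hk : Odd k) : orderOf (a ^ k) = orderOf a := by
  have : Fact (Nat.Prime 2) := ⟨Nat.prime_two⟩
  obtain ⟨n, hn⟩ := (IsPGroup.iff_orderOf.mp hP) a
  have hnat : Odd k.natAbs := Int.natAbs_odd.mpr hk
  have hcop : (orderOf a).Coprime k.natAbs := by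
    rw [hn]
    exact Nat.Coprime.pow_left n ((Nat.coprime_two_left).mpr hnat)
  have h1 : orderOf (a ^ k.natAbs) = orderOf a := hcop.orderOf_pow
  rcases Int.natAbs_eq k with h | h
  · rw [h, zpow_natCast]; exact h1
  · rw [h, zpow_neg, zpow_natCast, orderOf_inv]; exact h1

/-- An abelian 2-subgroup with at most one involution is cyclic. -/
theorem exists_generator {P : Type*} [Group P] [Finite P] (hP : IsPGroup 2 P) (A : Subgroup P)
    (hAc : ∀ a ∈ A, ∀ b ∈ A, a * b = b * a)
    (hinv : ∀ x ∈ A, ∀ y ∈ A, orderOf x = 2 → orderOf y = 2 → x = y) :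
    ∃ a ∈ A, ∀ b ∈ A, b ∈ Subgroup.zpowers a := by
  classical
  have : Fact (Nat.Prime 2) := ⟨Nat.prime_two⟩
  obtain ⟨a, haA, hamax⟩ := Set.exists_max_image (A : Set P) (fun x => orderOf x)
    (Set.toFinite _) ⟨1, A.one_mem⟩
  refine ⟨a, haA, ?_⟩
  by_contra hcon
  push Not at hcon
  obtain ⟨b, ⟨hbA, hba⟩, hbmin⟩ := Set.exists_min_image {b : P | b ∈ A ∧ b ∉ Subgroup.zpowers a}
    (fun x => orderOf x) (Set.toFinite _) (by obtain ⟨b, h1, h2⟩ := hcon; exact ⟨b, h1, h2⟩)
  have hb1 : b ≠ 1 := by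
    rintro rfl
    exact hba (Subgroup.one_mem _)
  have h2b : 2 ∣ orderOf b := hP.dvd_orderOf hb1
  have hob : orderOf (b ^ 2) = orderOf b / 2 := orderOf_pow_of_dvd two_ne_zero h2b
  have hbpos : 0 < orderOf b := orderOf_pos b
  have hb2 : b ^ 2 ∈ Subgroup.zpowers a := by
    by_contra h
    have : orderOf b ≤ orderOf (b ^ 2) := hbmin (b ^ 2) ⟨A.pow_mem hbA 2, h⟩
    omega
  obtain ⟨k, hk⟩ := Subgroup.mem_zpowers_iff.mp hb2
  have hcomm : Commute b a := hAc b hbA a haA
  rcases Int.even_or_odd k with ⟨m, hm⟩ | hodd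
  · -- (b a^{-m})^2 = 1
    have hsq : (b * (a ^ m)⁻¹) ^ 2 = 1 := by
      have hc : Commute b (a ^ m)⁻¹ := (hcomm.zpow_right m).inv_right
      rw [hc.mul_pow, ← hk, hm, zpow_add, inv_pow, pow_two]
      group
    by_cases hc1 : b * (a ^ m)⁻¹ = 1
    · apply hba
      rw [mul_inv_eq_one] at hc1
      rw [hc1]
      exact Subgroup.zpow_mem _ (Subgroup.mem_zpowers a) m
    · have hco : orderOf (b * (a ^ m)⁻¹) = 2 := orderOf_eq_prime hsq hc1
      have hcA : b * (a ^ m)⁻¹ ∈ A := A.mul_mem hbA (A.inv_mem (A.zpow_mem haA m))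
      have ha1 : a ≠ 1 := by
        rintro rfl
        have h3 : orderOf b ≤ orderOf (1 : P) := hamax b hbA
        rw [orderOf_one] at h3
        omega
      have h2a : 2 ∣ orderOf a := hP.dvd_orderOf ha1
      have hao : orderOf (a ^ (orderOf a / 2)) = 2 := by
        have hapos : 0 < orderOf a := orderOf_pos a
        rw [orderOf_pow_of_dvd (by omega) (Nat.div_dvd_of_dvd h2a)]
        exact Nat.div_div_self h2a hapos.ne'
      have heq := hinv _ hcA _ (A.pow_mem haA _) hco hao
      apply hba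
      have : b = a ^ (orderOf a / 2) * a ^ m := by rw [← heq]; group
      rw [this]
      exact Subgroup.mul_mem _ (Subgroup.pow_mem _ (Subgroup.mem_zpowers a) _)
        (Subgroup.zpow_mem _ (Subgroup.mem_zpowers a) m)
  · -- order of a^k is order of a
    have hak : orderOf (a ^ k) = orderOf a := orderOf_zpow_odd hP a hodd
    have h3 : orderOf b ≤ orderOf a := hamax b hbA
    rw [hk, hob] at hak
    omega

/-- The subgroup `{1, w, e, we}` for commuting `w`, `e` of square one. -/
def fourSubgroup {P : Type*} [Group P] (w e : P) (hw : w ^ 2 = 1) (he : e ^ 2 = 1)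
    (hc : e * w = w * e) : Subgroup P where
  carrier := {x | x = 1 ∨ x = w ∨ x = e ∨ x = w * e}
  one_mem' := Or.inl rfl
  mul_mem' := by
    have hw' : w * w = 1 := by rw [← pow_two]; exact hw
    have he' : e * e = 1 := by rw [← pow_two]; exact he
    have h1 : e * (w * e) = w := by rw [← mul_assoc, hc, mul_assoc, he', mul_one]
    have h2 : w * (w * e) = e := by rw [← mul_assoc, hw', one_mul]
    have h3 : (w * e) * w = e := by rw [mul_assoc, hc, ← mul_assoc, hw', one_mul]
    have h4 : (w * e) * e = w := by rw [mul_assoc, he', mul_one]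
    have h5 : (w * e) * (w * e) = 1 := by rw [mul_assoc, h1, hw']
    rintro x y (rfl | rfl | rfl | rfl) (rfl | rfl | rfl | rfl) <;>
      simp [hw', he', h1, h2, h3, h4, h5, hc]
  inv_mem' := by
    have hw' : w * w = 1 := by rw [← pow_two]; exact hw
    have he' : e * e = 1 := by rw [← pow_two]; exact he
    have hwi : w⁻¹ = w := inv_eq_of_mul_eq_one_left hw'
    have hei : e⁻¹ = e := inv_eq_of_mul_eq_one_left he'
    rintro x (rfl | rfl | rfl | rfl) <;> simp [hwi, hei, hc]

theorem mem_fourSubgroup {P : Type*} [Group P] {w e : P} {hw : w ^ 2 = 1} {he : e ^ 2 = 1}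
    {hc : e * w = w * e} {x : P} :
    x ∈ fourSubgroup w e hw he hc ↔ (x = 1 ∨ x = w ∨ x = e ∨ x = w * e) := Iff.rfl

theorem two_pow_dvd_or {m : ℕ} {k : ℤ} (h : ((2 : ℤ) ^ (m + 1)) ∣ (k - 1) * (k + 1)) :
    ((2 : ℤ) ^ m) ∣ (k - 1) ∨ ((2 : ℤ) ^ m) ∣ (k + 1) := by
  rcases m with _ | m
  · left; simp
  have hk : Odd k := by
    by_contra hk
    rw [Int.not_odd_iff_even] at hk
    obtain ⟨t, rfl⟩ := hk
    have h1 : (2 : ℤ) ∣ (t + t - 1) * (t + t + 1) := by
      refine dvd_trans ?_ h
      exact dvd_pow_self 2 (by omega)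
    obtain ⟨s, hs⟩ := h1
    have h2 : (t + t - 1) * (t + t + 1) = 2 * (2 * t * t) - 1 := by ring
    rw [h2] at hs
    omega
  obtain ⟨t, rfl⟩ := hk
  have h1 : (2 * t + 1 - 1) * (2 * t + 1 + 1) = 4 * (t * (t + 1)) := by ring
  have h2 : (2 : ℤ) ^ (m + 1 + 1) = 4 * 2 ^ m := by ring
  rw [h1, h2] at h
  have h3 : (2 : ℤ) ^ m ∣ t * (t + 1) := Int.dvd_of_mul_dvd_mul_left (by norm_num) h
  rcases Int.even_or_odd t with ht | ht
  · left
    have hc : IsCoprime ((2 : ℤ) ^ m) (t + 1) := by
      apply IsCoprime.pow_left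
      obtain ⟨s, rfl⟩ := ht
      exact ⟨-s, 1, by ring⟩
    have h4 : (2 : ℤ) ^ m ∣ t := hc.dvd_of_dvd_mul_right h3
    have h5 : 2 * t + 1 - 1 = 2 * t := by ring
    rw [h5, pow_succ, mul_comm]
    exact mul_dvd_mul_left 2 h4
  · right
    have hc : IsCoprime ((2 : ℤ) ^ m) t := by
      apply IsCoprime.pow_left
      obtain ⟨s, rfl⟩ := ht
      exact ⟨-s, 1, by ring⟩
    have h4 : (2 : ℤ) ^ m ∣ t + 1 := hc.dvd_of_dvd_mul_left h3
    have h5 : 2 * t + 1 + 1 = 2 * (t + 1) := by ring
    rw [h5, pow_succ, mul_comm]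
    exact mul_dvd_mul_left 2 h4

/-- A finite 2-group containing an elementary abelian subgroup of order 8 has a normal
four-subgroup. -/
theorem exists_normal_four {P : Type*} [Group P] [Finite P] (hP : IsPGroup 2 P) (E : Subgroup P)
    (hE : Nat.card E = 8) (hE2 : ∀ e ∈ E, e ^ 2 = 1) :
    ∃ U : Subgroup P, U.Normal ∧ Nat.card U = 4 ∧ ∀ u ∈ U, u ^ 2 = 1 := by
  classical
  have : Fact (Nat.Prime 2) := ⟨Nat.prime_two⟩
  obtain ⟨A, hAn, hAc, hself⟩ := exists_self_centralizing_normal hP
  -- the subgroup of elements of square one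
  let Ω : Subgroup P :=
    { carrier := {x | x ∈ A ∧ x ^ 2 = 1}
      one_mem' := ⟨A.one_mem, one_pow 2⟩
      mul_mem' := by
        rintro x y ⟨hx, hx2⟩ ⟨hy, hy2⟩
        refine ⟨A.mul_mem hx hy, ?_⟩
        have hxy : Commute x y := hAc x hx y hy
        rw [hxy.mul_pow, hx2, hy2, one_mul]
      inv_mem' := by
        rintro x ⟨hx, hx2⟩
        exact ⟨A.inv_mem hx, by rw [inv_pow, hx2, inv_one]⟩ }
  have hΩmem : ∀ x, x ∈ Ω ↔ x ∈ A ∧ x ^ 2 = 1 := fun x => Iff.rfl
  have hΩn : Ω.Normal := by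
    refine ⟨?_⟩
    rintro x ⟨hx, hx2⟩ g
    refine ⟨hAn.conj_mem x hx g, ?_⟩
    have : (g * x * g⁻¹) ^ 2 = g * x ^ 2 * g⁻¹ := by rw [pow_two, pow_two]; group
    rw [this, hx2]; group
  by_cases hbig : 2 < Nat.card Ω
  · obtain ⟨U, h1, -, h3, h4⟩ := exists_normal_four_of_normal hP Ω (fun x hx => hx.2) hbig
    exact ⟨U, h1, h3, h4⟩
  -- uniqueness of the involution of A
  have huniq : ∀ x ∈ A, ∀ y ∈ A, x ^ 2 = 1 → y ^ 2 = 1 → x ≠ 1 → y ≠ 1 → x = y := by
    intro x hx y hy hx2 hy2 hx1 hy1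
    by_contra hxy
    apply hbig
    have h3 : ({1, x, y} : Finset P).card = 3 := by
      rw [Finset.card_eq_three]
      exact ⟨1, x, y, Ne.symm hx1, Ne.symm hy1, hxy, rfl⟩
    have h4 : ({1, x, y} : Finset P).card ≤ Nat.card Ω := by
      rw [← Set.ncard_coe_finset]
      have h5 : Nat.card Ω = (Ω : Set P).ncard := rfl
      rw [h5]
      apply Set.ncard_le_ncard _ (Set.toFinite _)
      intro t ht
      simp only [Finset.coe_insert, Finset.coe_singleton, Set.mem_insert_iff,
        Set.mem_singleton_iff] at ht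
      rcases ht with rfl | rfl | rfl
      · exact Ω.one_mem
      · exact ⟨hx, hx2⟩
      · exact ⟨hy, hy2⟩
    omega
  obtain ⟨a, haA, hagen⟩ := exists_generator hP A hAc (by
    intro x hx y hy hx2 hy2
    refine huniq x hx y hy ?_ ?_ ?_ ?_
    · rw [← hx2]; exact pow_orderOf_eq_one x
    · rw [← hy2]; exact pow_orderOf_eq_one y
    · rintro rfl
      rw [orderOf_one] at hx2; omega
    · rintro rfl
      rw [orderOf_one] at hy2; omega)
  -- centralizing `a` suffices
  have hself' : ∀ g : P, g * a * g⁻¹ = a → g ∈ A := by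
    intro g hg
    apply hself
    intro b hb
    obtain ⟨k, rfl⟩ := Subgroup.mem_zpowers_iff.mp (hagen b hb)
    have h1 : g * a = a * g := by
      calc g * a = (g * a * g⁻¹) * g := by group
        _ = a * g := by rw [hg]
    exact ((show Commute g a from h1).zpow_right k).eq
  -- `a ≠ 1`
  have hEA : ∀ e ∈ E, e ∈ A → e ∈ Ω := fun e he heA => ⟨heA, hE2 e he⟩
  have ha1 : a ≠ 1 := by
    rintro rfl
    have hle : E ≤ Ω := fun e he => hEA e he (hself' e (by group))
    have := Subgroup.card_le_of_le hle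
    omega
  -- the involution `w` of `A`
  obtain ⟨n, hn⟩ := (IsPGroup.iff_orderOf.mp hP) a
  have hn0 : n ≠ 0 := by
    rintro rfl
    rw [pow_zero, orderOf_eq_one_iff] at hn
    exact ha1 hn
  obtain ⟨m, rfl⟩ : ∃ m, n = m + 1 := ⟨n - 1, by omega⟩
  set w : P := a ^ (2 ^ m) with hw
  have hwA : w ∈ A := A.pow_mem haA _
  have hw2 : w ^ 2 = 1 := by
    rw [hw, ← pow_mul, ← pow_succ, ← hn]
    exact pow_orderOf_eq_one a
  have hw1 : w ≠ 1 := by
    intro h
    have h1 : orderOf a ∣ 2 ^ m := orderOf_dvd_of_pow_eq_one h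
    rw [hn, Nat.pow_dvd_pow_iff_le_right (by norm_num)] at h1
    omega
  have hw' : ∀ x ∈ A, x ^ 2 = 1 → x = 1 ∨ x = w := by
    intro x hx hx2
    by_cases hx1 : x = 1
    · exact Or.inl hx1
    · exact Or.inr (huniq x hx w hwA hx2 hw2 hx1 hw1)
  have hwinv : w⁻¹ = w := inv_eq_of_mul_eq_one_left (by rw [← pow_two]; exact hw2)
  have haw : Commute a w := hAc a haA w hwA
  -- action of an element of `E` on `a`
  have hact : ∀ e ∈ E, e * a * e⁻¹ = a ∨ e * a * e⁻¹ = a * w ∨ e * a * e⁻¹ = a⁻¹ ∨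
      e * a * e⁻¹ = a⁻¹ * w := by
    intro e he
    obtain ⟨k, hk⟩ := Subgroup.mem_zpowers_iff.mp (hagen _ (hAn.conj_mem a haA e))
    have hee : e * e = 1 := by rw [← pow_two]; exact hE2 e he
    have hei : e⁻¹ = e := inv_eq_of_mul_eq_one_left hee
    have h1 : a ^ (k * k) = a := by
      rw [zpow_mul, hk]
      have h2 : (e * a * e⁻¹) ^ k = e * a ^ k * e⁻¹ := conj_zpow
      rw [h2, hk, hei]
      calc e * (e * a * e) * e = (e * e) * a * (e * e) := by group
        _ = a := by rw [hee]; group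
    have h2 : a ^ ((k - 1) * (k + 1)) = 1 := by
      have : (k - 1) * (k + 1) = k * k - 1 := by ring
      rw [this, zpow_sub, h1, zpow_one, mul_inv_cancel]
    have h3 : ((2 : ℤ) ^ (m + 1)) ∣ (k - 1) * (k + 1) := by
      have := orderOf_dvd_iff_zpow_eq_one.mpr h2
      rw [hn] at this
      exact_mod_cast this
    -- reduce to: 2^m ∣ k - 1 or 2^m ∣ k + 1
    have h4 : ((2 : ℤ) ^ m) ∣ (k - 1) ∨ ((2 : ℤ) ^ m) ∣ (k + 1) := two_pow_dvd_or h3
    have hwz : ∀ j : ℤ, w ^ j = 1 ∨ w ^ j = w := by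
      intro j
      refine hw' _ (A.zpow_mem hwA j) ?_
      rw [← zpow_natCast, ← zpow_mul, mul_comm, zpow_mul]
      have : w ^ ((2 : ℕ) : ℤ) = 1 := by rw [zpow_natCast]; exact hw2
      rw [this, one_zpow]
    have h2m : a ^ ((2 : ℤ) ^ m) = w := by
      rw [hw, ← zpow_natCast]; push_cast; rfl
    rcases h4 with ⟨j, hj⟩ | ⟨j, hj⟩
    · have h5 : k = 1 + 2 ^ m * j := by linarith
      have h6 : e * a * e⁻¹ = a * w ^ j := by
        rw [← hk, h5, zpow_add, zpow_one, zpow_mul, h2m]
      rcases hwz j with h7 | h7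
      · left; rw [h6, h7, mul_one]
      · right; left; rw [h6, h7]
    · have h5 : k = -1 + 2 ^ m * j := by linarith
      have h6 : e * a * e⁻¹ = a⁻¹ * w ^ j := by
        rw [← hk, h5, zpow_add, zpow_neg_one, zpow_mul, h2m]
      rcases hwz j with h7 | h7
      · right; right; left; rw [h6, h7, mul_one]
      · right; right; right; rw [h6, h7]
  -- counting
  let f : P → P := fun e => e * a * e⁻¹
  let EF : Finset P := (Set.toFinite (E : Set P)).toFinset
  have hEF : ∀ e, e ∈ EF ↔ e ∈ E := by intro e; simp [EF]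
  have hEFcard : EF.card = 8 := by
    rw [← hE]
    exact (Nat.card_eq_card_finite_toFinset (Set.toFinite (E : Set P))).symm
  have hfib : ∀ v ∈ EF.image f, (EF.filter (fun x => f x = v)).card ≤ 2 := by
    intro v hv
    obtain ⟨e₀, he₀, rfl⟩ := Finset.mem_image.mp hv
    have hsub : EF.filter (fun x => f x = f e₀) ⊆ {e₀, e₀ * w} := by
      intro e he
      rw [Finset.mem_filter] at he
      obtain ⟨heE, hfe⟩ := he
      rw [hEF] at heE he₀
      have h1 : (e₀⁻¹ * e) * a * (e₀⁻¹ * e)⁻¹ = a := by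
        have : e * a * e⁻¹ = e₀ * a * e₀⁻¹ := hfe
        calc (e₀⁻¹ * e) * a * (e₀⁻¹ * e)⁻¹ = e₀⁻¹ * (e * a * e⁻¹) * e₀ := by group
          _ = a := by rw [this]; group
      have h2 : e₀⁻¹ * e ∈ A := hself' _ h1
      have h3 : (e₀⁻¹ * e) ^ 2 = 1 := hE2 _ (E.mul_mem (E.inv_mem he₀) heE)
      rcases hw' _ h2 h3 with h4 | h4
      · rw [Finset.mem_insert]; left
        rw [inv_mul_eq_one] at h4; exact h4.symm
      · rw [Finset.mem_insert, Finset.mem_singleton]; right
        rw [← h4]; group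
    exact (Finset.card_le_card hsub).trans Finset.card_le_two
  have himg : 8 ≤ 2 * (EF.image f).card := by
    rw [← hEFcard]
    exact Finset.card_le_mul_card_image EF 2 hfib
  have hsubimg : EF.image f ⊆ {a, a * w, a⁻¹, a⁻¹ * w} := by
    intro v hv
    obtain ⟨e, he, rfl⟩ := Finset.mem_image.mp hv
    rw [hEF] at he
    simp only [Finset.mem_insert, Finset.mem_singleton]
    exact hact e he
  have hcard4 : ({a, a * w, a⁻¹, a⁻¹ * w} : Finset P).card ≤ 4 := Finset.card_le_four
  have heq4 : EF.image f = {a, a * w, a⁻¹, a⁻¹ * w} :=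
    Finset.eq_of_subset_of_card_le hsubimg (by omega)
  have hcard4' : 4 ≤ ({a, a * w, a⁻¹, a⁻¹ * w} : Finset P).card := by rw [← heq4]; omega
  -- distinctness
  have ha2 : a ^ 2 ≠ 1 := by
    intro h
    have h1 : a⁻¹ = a := inv_eq_of_mul_eq_one_left (by rw [← pow_two]; exact h)
    rw [h1] at hcard4'
    have h2 : ({a, a * w, a, a * w} : Finset P) = {a, a * w} := by
      ext t; simp only [Finset.mem_insert, Finset.mem_singleton]; tauto
    rw [h2] at hcard4'
    have := Finset.card_le_two (a := a) (b := a * w)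
    omega
  have haw2 : a ^ 2 ≠ w := by
    intro h
    have h1 : a⁻¹ * w = a := by rw [← h, pow_two]; group
    have h2 : a * w = a⁻¹ := by
      rw [← hwinv, ← h, pow_two]; group
    rw [h1, h2] at hcard4'
    have h2 : ({a, a⁻¹, a⁻¹, a} : Finset P) = {a, a⁻¹} := by
      ext t; simp only [Finset.mem_insert, Finset.mem_singleton]; tauto
    rw [h2] at hcard4'
    have := Finset.card_le_two (a := a) (b := a⁻¹)
    omega
  have ha4 : a ^ 4 ≠ 1 := by
    intro h
    have h1 : (a ^ 2) ^ 2 = 1 := by rw [← pow_mul]; exact h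
    rcases hw' _ (A.pow_mem haA 2) h1 with h2 | h2
    · exact ha2 h2
    · exact haw2 h2
  -- the element e
  obtain ⟨e, heE, hea⟩ : ∃ e ∈ E, e * a * e⁻¹ = a * w := by
    have h1 : a * w ∈ EF.image f := by rw [heq4]; simp
    obtain ⟨e, he, h2⟩ := Finset.mem_image.mp h1
    exact ⟨e, (hEF e).mp he, h2⟩
  have he2 : e ^ 2 = 1 := hE2 e heE
  have heA : e ∉ A := by
    intro h
    have h1 : e * a = a * e := hAc e h a haA
    rw [h1, mul_inv_cancel_right] at hea
    apply hw1
    have : a * w = a * 1 := by rw [mul_one]; exact hea.symm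
    exact mul_left_cancel this
  -- w is central
  have hwc : ∀ g : P, g * w * g⁻¹ = w := by
    intro g
    refine huniq _ (hAn.conj_mem w hwA g) w hwA ?_ hw2 ?_ hw1
    · rw [conj_pow, hw2]; group
    · intro h
      apply hw1
      have : w = g⁻¹ * (g * w * g⁻¹) * g := by group
      rw [this, h]; group
  have hew : e * w = w * e := by
    have := hwc e
    calc e * w = (e * w * e⁻¹) * e := by group
      _ = w * e := by rw [this]
  refine ⟨fourSubgroup w e hw2 he2 hew, ?_, ?_, ?_⟩
  · -- normality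
    have hge : ∀ g : P, g * e * g⁻¹ = e ∨ g * e * g⁻¹ = w * e := by
      intro g
      have h1 : g * e * g⁻¹ * e⁻¹ ∈ A := by
        apply hself'
        obtain ⟨k, hk⟩ := Subgroup.mem_zpowers_iff.mp (hagen _ (hAn.conj_mem a haA g⁻¹))
        obtain ⟨l, hl⟩ := Subgroup.mem_zpowers_iff.mp (hagen _ (hAn.conj_mem a haA e⁻¹))
        have q1 : g * e * g⁻¹ * e⁻¹ * a * (g * e * g⁻¹ * e⁻¹)⁻¹
            = g * (e * (g⁻¹ * (e⁻¹ * a * e⁻¹⁻¹) * g⁻¹⁻¹) * e⁻¹) * g⁻¹ := by group
        have q2 : g⁻¹ * a ^ l * g⁻¹⁻¹ = (a ^ l) ^ k := by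
          have h : g⁻¹ * a ^ l * g⁻¹⁻¹ = (g⁻¹ * a * g⁻¹⁻¹) ^ l := conj_zpow.symm
          rw [h, ← hk, ← zpow_mul, ← zpow_mul, mul_comm]
        have q3 : e * (a ^ l) ^ k * e⁻¹ = a ^ k := by
          have h : e * (a ^ l) ^ k * e⁻¹ = (e * a ^ l * e⁻¹) ^ k := conj_zpow.symm
          rw [h, hl]; congr 1; group
        rw [q1, ← hl, q2, q3, hk]; group
      obtain ⟨i, hi⟩ := Subgroup.mem_zpowers_iff.mp (hagen _ h1)
      have h2 : g * e * g⁻¹ = a ^ i * e := by rw [hi]; group
      have h3 : (a ^ i * e) ^ 2 = 1 := by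
        rw [← h2, conj_pow, he2]; group
      have hei : e⁻¹ = e := inv_eq_of_mul_eq_one_left (by rw [← pow_two]; exact he2)
      have h4 : a ^ (2 * i) * w ^ i = 1 := by
        have h5 : (a ^ i * e) ^ 2 = a ^ i * (e * a ^ i * e⁻¹) := by
          rw [pow_two, hei]; group
        have h6 : e * a ^ i * e⁻¹ = (a * w) ^ i := by rw [← hea, conj_zpow]
        rw [h5, h6, haw.mul_zpow] at h3
        rw [two_mul, zpow_add, ← h3]; group
      rcases Int.even_or_odd i with ⟨j, hj⟩ | hodd
      · have h7 : w ^ i = 1 := by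
          rw [hj, ← two_mul, zpow_mul]
          have : w ^ (2 : ℤ) = 1 := by exact_mod_cast hw2
          rw [this, one_zpow]
        rw [h7, mul_one] at h4
        have h8 : (a ^ i) ^ 2 = 1 := by
          rw [← zpow_natCast, ← zpow_mul, mul_comm]; exact_mod_cast h4
        rcases hw' _ (A.zpow_mem haA i) h8 with h9 | h9
        · left; rw [h2, h9, one_mul]
        · right; rw [h2, h9]
      · exfalso
        obtain ⟨j, hj⟩ := hodd
        have h7 : w ^ i = w := by
          rw [hj, zpow_add, zpow_mul]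
          have : w ^ (2 : ℤ) = 1 := by exact_mod_cast hw2
          rw [this, one_zpow, one_mul, zpow_one]
        rw [h7] at h4
        have h8 : a ^ (2 * i) = w := by
          rw [mul_eq_one_iff_eq_inv] at h4
          rw [h4, hwinv]
        have h9 : (a ^ 4) ^ i = 1 := by
          have : (a ^ 4) ^ i = (a ^ (2 * i)) ^ 2 := by
            rw [← zpow_natCast, ← zpow_mul, ← zpow_natCast, ← zpow_mul]
            congr 1; push_cast; ring
          rw [this, h8, hw2]
        have h10 : orderOf ((a ^ 4) ^ i) = orderOf (a ^ 4) := orderOf_zpow_odd hP _ ⟨j, hj⟩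
        rw [h9, orderOf_one] at h10
        exact ha4 (orderOf_eq_one_iff.mp h10.symm)
    refine ⟨?_⟩
    rintro x hx g
    rw [mem_fourSubgroup] at hx ⊢
    rcases hx with rfl | rfl | rfl | rfl
    · left; group
    · right; left; exact hwc g
    · rcases hge g with h | h
      · right; right; left; exact h
      · right; right; right; exact h
    · have h1 : g * (w * e) * g⁻¹ = (g * w * g⁻¹) * (g * e * g⁻¹) := by group
      rw [h1, hwc g]
      rcases hge g with h | h
      · right; right; right; rw [h]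
      · right; right; left; rw [h, ← mul_assoc, ← pow_two, hw2, one_mul]
  · -- card
    have he1 : e ≠ 1 := by rintro rfl; exact heA A.one_mem
    have hew' : e ≠ w := by rintro rfl; exact heA hwA
    have h1 : ((fourSubgroup w e hw2 he2 hew : Subgroup P) : Set P) =
        (({1, w, e, w * e} : Finset P) : Set P) := by
      ext x
      simp only [Finset.coe_insert, Finset.coe_singleton, Set.mem_insert_iff,
        Set.mem_singleton_iff]
      exact Iff.rfl
    have h2 : Nat.card (fourSubgroup w e hw2 he2 hew) =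
        ((fourSubgroup w e hw2 he2 hew : Subgroup P) : Set P).ncard := rfl
    rw [h2, h1, Set.ncard_coe_finset]
    have h3 : (1 : P) ≠ w * e := by
      intro h
      apply hew'
      have := mul_eq_one_iff_eq_inv.mp h.symm
      rw [this]
      exact (inv_eq_of_mul_eq_one_left (by rw [← pow_two]; exact he2)).symm
    have h4 : w ≠ w * e := by
      intro h
      apply he1
      have : w * 1 = w * e := by rw [mul_one]; exact h
      exact (mul_left_cancel this).symm
    have h5 : e ≠ w * e := by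
      intro h
      apply hw1
      have : 1 * e = w * e := by rw [one_mul]; exact h
      exact (mul_right_cancel this).symm
    rw [Finset.card_insert_of_notMem, Finset.card_insert_of_notMem, Finset.card_insert_of_notMem,
      Finset.card_singleton]
    · simpa using h5
    · simp only [Finset.mem_insert, Finset.mem_singleton, not_or]
      exact ⟨hew'.symm, h4⟩
    · simp only [Finset.mem_insert, Finset.mem_singleton, not_or]
      exact ⟨hw1.symm, he1.symm, h3⟩
  · rintro u hu
    rw [mem_fourSubgroup] at hu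
    rcases hu with rfl | rfl | rfl | rfl
    · exact one_pow 2
    · exact hw2
    · exact he2
    · rw [(show Commute w e from hew.symm).mul_pow, hw2, he2, one_mul]

end Cfsg.Agent.Involutions.NormalFour
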