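import Mathlib
set_option linter.all false

set_option autoImplicit false

namespace Cfsg.Agent.Involutions.DihedralPair

/-- Conjugation by the involution `x` inverts powers of `x * y`. -/
theorem mul_zpow_pair {G : Type*} [Group G] {x y : G} (hx : x * x = 1) (hy : y * y = 1) (k : ℤ) :
    x * (x * y) ^ k = (x * y) ^ (-k) * x := by
  have hx' : x⁻¹ = x := inv_eq_of_mul_eq_one_left hx
  have hy' : y⁻¹ = y := inv_eq_of_mul_eq_one_left hy
  have h1 : x * (x * y) * x⁻¹ = (x * y)⁻¹ := by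
    rw [mul_inv_rev, hy', hx', ← mul_assoc, hx, one_mul]
  have h2 : x * (x * y) ^ k * x⁻¹ = (x * y) ^ (-k) := by
    rw [← conj_zpow, h1, inv_zpow, zpow_neg]
  rw [← h2, inv_mul_cancel_right]

/-- Every element of the subgroup generated by two involutions is `(x*y)^k` or `(x*y)^k * x`. -/
theorem mem_closure_pair {G : Type*} [Group G] {x y : G} (hx : x * x = 1) (hy : y * y = 1) {d : G}
    (hd : d ∈ Subgroup.closure ({x, y} : Set G)) :
    ∃ k : ℤ, d = (x * y) ^ k ∨ d = (x * y) ^ k * x := by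
  have hx' : x⁻¹ = x := inv_eq_of_mul_eq_one_left hx
  have hy' : y⁻¹ = y := inv_eq_of_mul_eq_one_left hy
  have hyx : y = (x * y) ^ (-1 : ℤ) * x := by
    rw [zpow_neg_one, mul_inv_rev, hy', hx', mul_assoc, hx, mul_one]
  induction hd using Subgroup.closure_induction with
  | mem z hz =>
    rcases hz with rfl | hz
    · exact ⟨0, Or.inr (by simp)⟩
    · rw [Set.mem_singleton_iff] at hz
      subst hz
      exact ⟨-1, Or.inr hyx⟩
  | one => exact ⟨0, Or.inl (by simp)⟩
  | mul a b _ _ iha ihb =>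
    obtain ⟨k, rfl | rfl⟩ := iha
    · obtain ⟨l, rfl | rfl⟩ := ihb
      · exact ⟨k + l, Or.inl (by rw [zpow_add])⟩
      · exact ⟨k + l, Or.inr (by rw [zpow_add, mul_assoc])⟩
    · obtain ⟨l, rfl | rfl⟩ := ihb
      · exact ⟨k + -l, Or.inr (by rw [mul_assoc, mul_zpow_pair hx hy, zpow_add, mul_assoc])⟩
      · refine ⟨k + -l, Or.inl ?_⟩
        rw [mul_assoc, ← mul_assoc x, mul_zpow_pair hx hy, mul_assoc _ x x, hx, mul_one, zpow_add]
  | inv a _ iha =>
    obtain ⟨k, rfl | rfl⟩ := iha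
    · exact ⟨-k, Or.inl (by rw [zpow_neg])⟩
    · refine ⟨k, Or.inr ?_⟩
      rw [mul_inv_rev, hx', ← zpow_neg, mul_zpow_pair hx hy, neg_neg]

/-- The conjugates of `x` in the subgroup generated by the involutions `x`, `y`. -/
theorem conj_of_mem_closure_pair {G : Type*} [Group G] {x y : G} (hx : x * x = 1)
    (hy : y * y = 1) {d : G} (hd : d ∈ Subgroup.closure ({x, y} : Set G)) :
    ∃ k : ℤ, d * x * d⁻¹ = (x * y) ^ (2 * k) * x := by
  have hx' : x⁻¹ = x := inv_eq_of_mul_eq_one_left hx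
  obtain ⟨k, rfl | rfl⟩ := mem_closure_pair hx hy hd
  · refine ⟨k, ?_⟩
    rw [← zpow_neg, mul_assoc, mul_zpow_pair hx hy, neg_neg, ← mul_assoc, ← zpow_add, two_mul]
  · refine ⟨k, ?_⟩
    rw [mul_inv_rev, hx', ← zpow_neg, mul_assoc _ x x, hx, mul_one, mul_zpow_pair hx hy, neg_neg,
      ← mul_assoc, ← zpow_add, two_mul]

end Cfsg.Agent.Involutions.DihedralPair
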