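import Mathlib
import Cfsg.Agent.Involutions.NormalFour
set_option linter.all false

set_option autoImplicit false

namespace Cfsg.Agent.Involutions.RankThree

open Cfsg.Agent.Involutions.NormalFour

/-- If an involution acts without fixed points on the cosets of a subgroup whose index is twice an
odd number, the group has a subgroup of index two. -/
theorem exists_index_two_of_no_conj {G : Type*} [Group G] [Finite G] (K : Subgroup G) {m : ℕ}
    (hm : Odd m) (hK : K.index = 2 * m) (x : G) (hx : x ^ 2 = 1)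
    (hfree : ∀ g : G, g⁻¹ * x * g ∉ K) : ∃ H : Subgroup G, H.index = 2 ∧ H.Normal ∧ x ∉ H := by
  classical
  have : Fintype (G ⧸ K) := Fintype.ofFinite _
  let f : G →* ℤˣ := Equiv.Perm.sign.comp (MulAction.toPermHom G (G ⧸ K))
  have hcard : Fintype.card (G ⧸ K) = 2 * m := by
    rw [← hK, Subgroup.index, Nat.card_eq_fintype_card]
  have hσ2 : (MulAction.toPermHom G (G ⧸ K) x) ^ 2 = 1 := by
    rw [← map_pow, hx, map_one]
  have hfix : Fintype.card (Function.fixedPoints (MulAction.toPermHom G (G ⧸ K) x)) = 0 := by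
    rw [Fintype.card_eq_zero_iff]
    refine ⟨?_⟩
    rintro ⟨q, hq⟩
    obtain ⟨g, rfl⟩ := QuotientGroup.mk_surjective q
    have h1 : ((x * g : G) : G ⧸ K) = (g : G ⧸ K) := hq
    have h2 : (x * g)⁻¹ * g ∈ K := QuotientGroup.eq.mp h1
    apply hfree g
    have h3 : g⁻¹ * x * g = ((x * g)⁻¹ * g)⁻¹ := by group
    rw [h3]
    exact K.inv_mem h2
  have hsign : f x = -1 := by
    change Equiv.Perm.sign (MulAction.toPermHom G (G ⧸ K) x) = -1
    rw [Equiv.Perm.sign_of_pow_two_eq_one hσ2, hfix, hcard]
    have : (2 * m - 0) / 2 = m := by omega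
    rw [this]
    exact hm.neg_one_pow
  refine ⟨f.ker, ?_, inferInstance, ?_⟩
  · rw [Subgroup.index_ker]
    have htop : f.range = ⊤ := by
      rw [eq_top_iff]
      intro u _
      rcases Int.units_eq_one_or u with rfl | rfl
      · exact Subgroup.one_mem _
      · exact ⟨x, hsign⟩
    rw [htop, Subgroup.card_top]
    simp
  · intro h
    rw [MonoidHom.mem_ker, hsign] at h
    exact absurd h (by decide)

/-- A four-subgroup `U` and a further commuting element of square one outside `U` generate an
elementary abelian subgroup of order 8. -/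
theorem exists_eight {G : Type*} [Group G] [Finite G] (U : Subgroup G) (hU : Nat.card U = 4)
    (hU2 : ∀ u ∈ U, u ^ 2 = 1) (f : G) (hf2 : f ^ 2 = 1) (hf : f ∉ U)
    (hc : ∀ u ∈ U, f * u = u * f) :
    ∃ F : Subgroup G, Nat.card F = 8 ∧ (∀ e ∈ F, e ^ 2 = 1) ∧ U ≤ F ∧ f ∈ F := by
  classical
  have hff : f * f = 1 := by rw [← pow_two]; exact hf2
  have hdesc : ∀ v, f * v ∈ U → f * v = v * f := by
    intro v hv
    have h1 : v = f * (f * v) := by rw [← mul_assoc, hff, one_mul]
    have h2 := hc _ hv
    calc f * v = (f * (f * v)) * f := by rw [h2, mul_assoc, hff, mul_one]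
      _ = v * f := by rw [← h1]
  let F : Subgroup G :=
    { carrier := {v | v ∈ U ∨ f * v ∈ U}
      one_mem' := Or.inl U.one_mem
      mul_mem' := by
        rintro v w (hv | hv) (hw | hw)
        · exact Or.inl (U.mul_mem hv hw)
        · right
          have : f * (v * w) = v * (f * w) := by rw [← mul_assoc, hc v hv, mul_assoc]
          rw [this]; exact U.mul_mem hv hw
        · right
          rw [← mul_assoc]; exact U.mul_mem hv hw
        · left
          have : v * w = (f * v) * (f * w) := by
            rw [hdesc v hv]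
            calc v * w = v * (f * f) * w := by rw [hff, mul_one]
              _ = v * f * (f * w) := by group
          rw [this]; exact U.mul_mem hv hw
      inv_mem' := by
        rintro v (hv | hv)
        · exact Or.inl (U.inv_mem hv)
        · right
          have hfi : f⁻¹ = f := inv_eq_of_mul_eq_one_left hff
          have : f * v⁻¹ = (f * v)⁻¹ := by
            rw [hdesc v hv, mul_inv_rev, hfi]
          rw [this]; exact U.inv_mem hv }
  have hmem : ∀ v, v ∈ F ↔ v ∈ U ∨ f * v ∈ U := fun v => Iff.rfl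
  have hUF : U ≤ F := fun v hv => Or.inl hv
  have hfF : f ∈ F := by
    right; rw [hff]; exact U.one_mem
  refine ⟨F, ?_, ?_, hUF, hfF⟩
  · have h2 : U.relIndex F = 2 := by
      rw [Subgroup.relIndex_eq_two_iff]
      refine ⟨f, hfF, ?_⟩
      intro b hb
      by_cases hbU : b ∈ U
      · refine Or.inr ⟨hbU, ?_⟩
        intro h
        apply hf
        have := U.mul_mem (U.inv_mem hbU) h
        rwa [← mul_assoc, inv_mul_cancel, one_mul] at this
      · refine Or.inl ⟨?_, hbU⟩
        rcases hb with h | h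
        · exact absurd h hbU
        · rw [← hdesc b h]; exact h
    have h3 := Subgroup.relIndex_mul_relIndex ⊥ U F bot_le hUF
    rw [Subgroup.relIndex_bot_left, Subgroup.relIndex_bot_left, h2, hU] at h3
    omega
  · intro e he
    rcases he with h | h
    · exact hU2 e h
    · have h1 : (f * e) ^ 2 = 1 := hU2 _ h
      have h2 : Commute f e := hdesc e h
      rw [h2.mul_pow, hf2, one_mul] at h1
      exact h1

/-- Shape of a normal four-subgroup of a 2-group. -/
theorem four_desc {P : Type*} [Group P] [Finite P] (hP : IsPGroup 2 P) (U : Subgroup P)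
    [hUn : U.Normal] (hU : Nat.card U = 4) (hU2 : ∀ u ∈ U, u ^ 2 = 1) :
    ∃ z u : P, z ∈ U ∧ u ∈ U ∧ z ∈ Subgroup.center P ∧ z ≠ 1 ∧ u ≠ 1 ∧ u ≠ z ∧
      (∀ v ∈ U, v = 1 ∨ v = z ∨ v = u ∨ v = z * u) ∧
      ∀ g : P, g * u * g⁻¹ = u ∨ g * u * g⁻¹ = z * u := by
  classical
  have : Fact (Nat.Prime 2) := ⟨Nat.prime_two⟩
  have hUb : U ≠ ⊥ := by
    rintro rfl
    rw [Subgroup.card_bot] at hU
    omega
  obtain ⟨z, hzU, hzc, hzo⟩ := exists_mem_center_of_normal hP U hUb
  have hz1 : z ≠ 1 := by
    rintro rfl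
    rw [orderOf_one] at hzo; omega
  have hUncard : (U : Set P).ncard = 4 := hU
  obtain ⟨u, huU, hu⟩ : ∃ u ∈ (U : Set P), u ∉ ({1, z} : Set P) := by
    by_contra hcon
    push Not at hcon
    have h1 : (U : Set P).ncard ≤ ({1, z} : Set P).ncard :=
      Set.ncard_le_ncard hcon (Set.toFinite _)
    have h2 : ({1, z} : Set P).ncard ≤ 2 := by
      exact (Set.ncard_insert_le _ _).trans (by rw [Set.ncard_singleton])
    omega
  simp only [Set.mem_insert_iff, Set.mem_singleton_iff, not_or] at hu
  obtain ⟨hu1, huz⟩ := hu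
  have hzz : z * z = 1 := by rw [← pow_two]; exact hU2 z hzU
  have hzu1 : z * u ≠ 1 := by
    intro h
    apply huz
    have : z * u = z * z := by rw [h, hzz]
    exact mul_left_cancel this
  have hzuz : z * u ≠ z := by
    intro h
    apply hu1
    have : z * u = z * 1 := by rw [h, mul_one]
    exact mul_left_cancel this
  have hzuu : z * u ≠ u := by
    intro h
    apply hz1
    have : z * u = 1 * u := by rw [h, one_mul]
    exact mul_right_cancel this
  have hall : ∀ v ∈ U, v = 1 ∨ v = z ∨ v = u ∨ v = z * u := by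
    have hsub : (({1, z, u, z * u} : Finset P) : Set P) ⊆ (U : Set P) := by
      intro v hv
      simp only [Finset.coe_insert, Finset.coe_singleton, Set.mem_insert_iff,
        Set.mem_singleton_iff] at hv
      rcases hv with rfl | rfl | rfl | rfl
      · exact U.one_mem
      · exact hzU
      · exact huU
      · exact U.mul_mem hzU huU
    have hc4 : ({1, z, u, z * u} : Finset P).card = 4 := by
      rw [Finset.card_insert_of_notMem, Finset.card_insert_of_notMem, Finset.card_insert_of_notMem,
        Finset.card_singleton]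
      · simpa using hzuu.symm
      · simp only [Finset.mem_insert, Finset.mem_singleton, not_or]
        exact ⟨fun h => huz h.symm, hzuz.symm⟩
      · simp only [Finset.mem_insert, Finset.mem_singleton, not_or]
        exact ⟨hz1.symm, fun h => hu1 h.symm, hzu1.symm⟩
    have heq : (({1, z, u, z * u} : Finset P) : Set P) = (U : Set P) := by
      apply Set.eq_of_subset_of_ncard_le hsub _ (Set.toFinite _)
      rw [hUncard, Set.ncard_coe_finset, hc4]
    intro v hv
    have hv' : v ∈ (U : Set P) := hv
    rw [← heq] at hv'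
    simpa using hv'
  refine ⟨z, u, hzU, huU, hzc, hz1, hu1, huz, hall, ?_⟩
  intro g
  have h1 : g * u * g⁻¹ ∈ U := hUn.conj_mem u huU g
  rcases hall _ h1 with h | h | h | h
  · exfalso; apply hu1
    have : u = g⁻¹ * (g * u * g⁻¹) * g := by group
    rw [this, h]; group
  · exfalso; apply huz
    have h2 : u = g⁻¹ * (g * u * g⁻¹) * g := by group
    rw [h2, h]
    have := (Subgroup.mem_center_iff.mp hzc) g⁻¹
    rw [this]; group
  · exact Or.inl h
  · exact Or.inr h

/-- In a finite 2-group `P` with an elementary abelian subgroup of order 8 there is a subgroup `M`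
of index at most 2 such that every involution of `M` lies in an elementary abelian subgroup of
order 8. -/
theorem exists_large_rank_three {P : Type*} [Group P] [Finite P] (hP : IsPGroup 2 P)
    (E : Subgroup P) (hE : Nat.card E = 8) (hE2 : ∀ e ∈ E, e ^ 2 = 1) :
    ∃ M : Subgroup P, (M = ⊤ ∨ M.index = 2) ∧ ∀ y ∈ M, y ^ 2 = 1 →
      ∃ F : Subgroup P, Nat.card F = 8 ∧ (∀ e ∈ F, e ^ 2 = 1) ∧ y ∈ F := by
  classical
  obtain ⟨U, hUn, hU, hU2⟩ := exists_normal_four hP E hE hE2
  obtain ⟨z, u, hzU, huU, hzc, hz1, hu1, huz, hall, hconj⟩ := four_desc hP U hU hU2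
  have hzz : z * z = 1 := by rw [← pow_two]; exact hU2 z hzU
  let M : Subgroup P := Subgroup.centralizer {u}
  have hM : ∀ g, g ∈ M ↔ g * u = u * g := by
    intro g
    exact Subgroup.mem_centralizer_singleton_iff
  have hM' : ∀ g, g ∉ M → g * u * g⁻¹ = z * u := by
    intro g hg
    rcases hconj g with h | h
    · exfalso; apply hg
      rw [hM]
      calc g * u = (g * u * g⁻¹) * g := by group
        _ = u * g := by rw [h]
    · exact h
  have hzcomm : ∀ g, g * z = z * g := Subgroup.mem_center_iff.mp hzc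
  have hmul : ∀ g h, g ∉ M → h ∉ M → g * h ∈ M := by
    intro g h hg hh
    rw [hM]
    have h1 : (g * h) * u * (g * h)⁻¹ = u := by
      calc (g * h) * u * (g * h)⁻¹ = g * (h * u * h⁻¹) * g⁻¹ := by group
        _ = g * (z * u) * g⁻¹ := by rw [hM' h hh]
        _ = (g * z) * u * g⁻¹ := by group
        _ = z * (g * u * g⁻¹) := by rw [hzcomm g]; group
        _ = (z * z) * u := by rw [hM' g hg]; group
        _ = u := by rw [hzz, one_mul]
    calc (g * h) * u = ((g * h) * u * (g * h)⁻¹) * (g * h) := by group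
      _ = u * (g * h) := by rw [h1]
  have hindex : ∀ K : Subgroup P, K ≤ M ∨ M.relIndex K = 2 := by
    intro K
    by_cases hK : K ≤ M
    · exact Or.inl hK
    · right
      obtain ⟨a, haK, haM⟩ := SetLike.not_le_iff_exists.mp hK
      rw [Subgroup.relIndex_eq_two_iff]
      refine ⟨a, haK, ?_⟩
      intro b _
      by_cases hb : b ∈ M
      · refine Or.inr ⟨hb, ?_⟩
        intro h
        apply haM
        have := M.mul_mem (M.inv_mem hb) h
        rwa [← mul_assoc, inv_mul_cancel, one_mul] at this
      · exact Or.inl ⟨hmul b a hb haM, hb⟩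
  have hMU : ∀ g ∈ M, ∀ v ∈ U, g * v = v * g := by
    intro g hg v hv
    have hgu := (hM g).mp hg
    rcases hall v hv with rfl | rfl | rfl | rfl
    · rw [one_mul, mul_one]
    · exact hzcomm g
    · exact hgu
    · rw [← mul_assoc, hzcomm g, mul_assoc, hgu, mul_assoc]
  refine ⟨M, ?_, ?_⟩
  · rcases hindex ⊤ with h | h
    · left; exact top_le_iff.mp h
    · right; rwa [Subgroup.relIndex_top_right] at h
  · intro y hy hy2
    by_cases hyU : y ∈ U
    · -- find f in E ∩ M outside U
      have hf : ∃ f ∈ E, f ∈ M ∧ f ∉ U := by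
        by_contra hcon
        push Not at hcon
        have hEM : E ⊓ M ≤ U := fun f hf => hcon f hf.1 hf.2
        have hle : Nat.card (E ⊓ M : Subgroup P) ≤ 4 := by
          rw [← hU]; exact Subgroup.card_le_of_le hEM
        rcases hindex E with h | h
        · rw [inf_eq_left.mpr h, hE] at hle
          omega
        · have h1 := Subgroup.relIndex_mul_relIndex ⊥ (M ⊓ E) E bot_le inf_le_right
          rw [Subgroup.relIndex_bot_left, Subgroup.relIndex_bot_left, Subgroup.inf_relIndex_right,
            h, hE, inf_comm] at h1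
          have h2 : E ⊓ M = U := by
            apply Subgroup.eq_of_le_of_card_ge hEM
            rw [hU]; omega
          have huE : u ∈ E := by
            have : u ∈ E ⊓ M := by rw [h2]; exact huU
            exact this.1
          have hEle : E ≤ M := by
            intro e he
            rw [hM]
            have ha : e * e = 1 := by rw [← pow_two]; exact hE2 e he
            have hb : u * u = 1 := by rw [← pow_two]; exact hU2 u huU
            have hc : (e * u) * (e * u) = 1 := by rw [← pow_two]; exact hE2 _ (E.mul_mem he huE)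
            have hei : e⁻¹ = e := inv_eq_of_mul_eq_one_left ha
            have hui : u⁻¹ = u := inv_eq_of_mul_eq_one_left hb
            have heui : (e * u)⁻¹ = e * u := inv_eq_of_mul_eq_one_left hc
            rw [← heui, mul_inv_rev, hei, hui]
          rw [inf_eq_left.mpr hEle] at h1
          omega
      obtain ⟨f, hfE, hfM, hfU⟩ := hf
      obtain ⟨F, h1, h2, h3, -⟩ := exists_eight U hU hU2 f (hE2 f hfE) hfU (hMU f hfM)
      exact ⟨F, h1, h2, h3 hyU⟩
    · obtain ⟨F, h1, h2, -, h4⟩ := exists_eight U hU hU2 y hy2 hyU (hMU y hy)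
      exact ⟨F, h1, h2, h4⟩

/-- In a group of exponent dividing two (here: a subgroup) all elements commute. -/
theorem comm_of_sq {G : Type*} [Group G] {F : Subgroup G} (hF : ∀ e ∈ F, e ^ 2 = 1) {a b : G}
    (ha : a ∈ F) (hb : b ∈ F) : a * b = b * a := by
  have h1 : a * a = 1 := by rw [← pow_two]; exact hF a ha
  have h2 : b * b = 1 := by rw [← pow_two]; exact hF b hb
  have h3 : (a * b) * (a * b) = 1 := by rw [← pow_two]; exact hF _ (F.mul_mem ha hb)
  have hai : a⁻¹ = a := inv_eq_of_mul_eq_one_left h1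
  have hbi : b⁻¹ = b := inv_eq_of_mul_eq_one_left h2
  have habi : (a * b)⁻¹ = a * b := inv_eq_of_mul_eq_one_left h3
  rw [← habi, mul_inv_rev, hai, hbi]

theorem main {G : Type*} [Group G] [Finite G] (hno : ∀ H : Subgroup G, H.index ≠ 2)
    (hrank : ∃ E : Subgroup G, Nat.card E = 8 ∧ ∀ e ∈ E, e ^ 2 = 1) (x : G) (hx : orderOf x = 2) :
    ∃ E : Subgroup G, E ≤ Subgroup.centralizer ({x} : Set G) ∧ Nat.card E = 8 ∧
      ∀ e ∈ E, e ^ 2 = 1 := by
  classical
  have : Fact (Nat.Prime 2) := ⟨Nat.prime_two⟩
  obtain ⟨E, hE, hE2⟩ := hrank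
  have hEP : IsPGroup 2 E := IsPGroup.of_card (n := 3) (by rw [hE]; norm_num)
  obtain ⟨T, hET⟩ := hEP.exists_le_sylow
  have hE' : Nat.card (E.subgroupOf (T : Subgroup G)) = 8 := by
    rw [← hE]
    exact Nat.card_congr (Subgroup.subgroupOfEquivOfLe hET).toEquiv
  obtain ⟨M, hMi, hM⟩ := exists_large_rank_three T.2 (E.subgroupOf (T : Subgroup G)) hE' (by
    intro e he
    apply Subtype.ext
    exact hE2 _ he)
  have hx2 : x ^ 2 = 1 := by rw [← hx]; exact pow_orderOf_eq_one x
  -- if a conjugate of `x` lies in `M` we are done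
  have hdone : ∀ g : G, g⁻¹ * x * g ∈ M.map (T : Subgroup G).subtype →
      ∃ E : Subgroup G, E ≤ Subgroup.centralizer ({x} : Set G) ∧ Nat.card E = 8 ∧
      ∀ e ∈ E, e ^ 2 = 1 := by
    intro g hg
    obtain ⟨y, hyM, hy⟩ := hg
    have hy2 : y ^ 2 = 1 := by
      apply Subtype.ext
      have h1 : ((y ^ 2 : (T : Subgroup G)) : G) = (g⁻¹ * x * g) ^ 2 := by
        rw [← hy]; rfl
      rw [h1, pow_two]
      calc g⁻¹ * x * g * (g⁻¹ * x * g) = g⁻¹ * (x ^ 2) * g := by rw [pow_two]; group
        _ = 1 := by rw [hx2]; group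
    obtain ⟨F, hF8, hF2, hyF⟩ := hM y hyM hy2
    refine ⟨(F.map (T : Subgroup G).subtype).map (MulAut.conj g).toMonoidHom, ?_, ?_, ?_⟩
    · rintro _ ⟨_, ⟨v, hv, rfl⟩, rfl⟩
      rw [Subgroup.mem_centralizer_singleton_iff]
      have h1 : v * y = y * v := comm_of_sq hF2 hv hyF
      have h2 : (v : G) * y = y * v := congrArg Subtype.val h1
      have h3 : (y : G) = g⁻¹ * x * g := hy
      have h4 : x = g * y * g⁻¹ := by rw [h3]; group
      change g * (v : G) * g⁻¹ * x = x * (g * (v : G) * g⁻¹)
      rw [h4]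
      calc g * (v : G) * g⁻¹ * (g * y * g⁻¹) = g * ((v : G) * y) * g⁻¹ := by group
        _ = g * (y * (v : G)) * g⁻¹ := by rw [h2]
        _ = g * y * g⁻¹ * (g * (v : G) * g⁻¹) := by group
    · rw [Subgroup.card_map_of_injective (MulAut.conj g).injective,
        Subgroup.card_map_of_injective (Subgroup.subtype_injective _), hF8]
    · rintro _ ⟨_, ⟨v, hv, rfl⟩, rfl⟩
      rw [← map_pow, ← map_pow, hF2 v hv, map_one, map_one]
  by_contra hcon
  have hfree : ∀ g : G, g⁻¹ * x * g ∉ M.map (T : Subgroup G).subtype := fun g hg => hcon (hdone g hg)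
  -- `x` is conjugate into `T`
  have hxP : IsPGroup 2 (Subgroup.zpowers x) :=
    IsPGroup.of_card (n := 1) (by rw [Nat.card_zpowers, hx, pow_one])
  obtain ⟨S, hS⟩ := hxP.exists_le_sylow
  obtain ⟨g, hg⟩ := MulAction.exists_smul_eq G S T
  have hxT : g * x * g⁻¹ ∈ (T : Subgroup G) := by
    rw [← hg]
    exact ⟨x, hS (Subgroup.mem_zpowers x), rfl⟩
  have hMi2 : M.index = 2 := by
    rcases hMi with h | h
    · exfalso
      apply hfree g⁻¹
      rw [h]
      refine ⟨⟨g * x * g⁻¹, hxT⟩, Subgroup.mem_top _, ?_⟩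
      change g * x * g⁻¹ = g⁻¹⁻¹ * x * g⁻¹
      rw [inv_inv]
    · exact h
  have hTodd : Odd (T : Subgroup G).index := by
    rw [← Nat.not_even_iff_odd, even_iff_two_dvd]
    exact T.not_dvd_index
  have hidx : (M.map (T : Subgroup G).subtype).index = 2 * (T : Subgroup G).index := by
    rw [Subgroup.index_map_subtype, hMi2]
  obtain ⟨H, hH, -⟩ := exists_index_two_of_no_conj _ hTodd hidx x hx2 hfree
  exact hno H hH

end Cfsg.Agent.Involutions.RankThree
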