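import Cfsg.Agent.S0208
import Cfsg.Agent.S0209
import Mathlib.Algebra.Group.Conj
set_option linter.all false

set_option autoImplicit false

namespace Cfsg.Agent.Involutions.CommonInvolution

/-- Two non-conjugate involutions of a finite group commute with a common involution
(the involution of the cyclic group generated by their product). -/
theorem exists_common_involution {G : Type*} [Group G] [Finite G] (x y : G)
    (hx : orderOf x = 2) (hy : orderOf y = 2) (hnc : ¬ IsConj x y) :
    ∃ z : G, orderOf z = 2 ∧ Commute z x ∧ Commute z y ∧ z ∈ Subgroup.zpowers (x * y) := by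
  have heven : Even (orderOf (x * y)) := by
    by_contra hodd
    rw [Nat.not_even_iff_odd] at hodd
    obtain ⟨d, _, hd⟩ := Cfsg.Agent.S0208.result x y hx hy hodd
    exact hnc (isConj_iff.mpr ⟨d, hd⟩)
  obtain ⟨h1, h2, h3⟩ := Cfsg.Agent.S0209.result x y hx hy heven
  exact ⟨_, h1, h2, h3, Subgroup.npow_mem_zpowers _ _⟩

end Cfsg.Agent.Involutions.CommonInvolution
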